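import Cfsg.Agent.Spor.LyUP.L.D0

set_option autoImplicit false
set_option maxRecDepth 100000000
set_option Elab.async false

namespace Cfsg.Agent.Spor.LyUP.L

theorem uok7 : Net.okb 9 un7 = true := by decide +kernel

theorem rel3 : U.rel 9 [15, 7, 9, 7, 3, 5, 12, 7, 9, 7, 5, 3, 1, 7, 9, 7] 0 9 = true := by decide +kernel

theorem uok8 : Net.okb 9 un8 = true := by decide +kernel

theorem rel4 : U.rel 9 [17, 9, 7, 12, 1, 9, 7, 5, 3, 7, 9, 7, 3, 9, 7, 9, 1, 11, 7, 9] 0 9 = true := by decide +kernel

theorem uok9 : Net.okb 9 un9 = true := by decide +kernel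

theorem rel5 : U.rel 9 [19, 7, 12, 7, 3, 5, 7, 3, 5, 11, 3, 5, 3, 5, 3, 5, 3] 0 9 = true := by decide +kernel

theorem uok10 : Net.okb 9 un10 = true := by decide +kernel

theorem rel6 : U.rel 9 [21, 5, 3, 7, 11, 5, 3, 7, 11, 5, 3, 5, 3, 5, 3, 5, 3] 0 9 = true := by decide +kernel

theorem uok11 : Net.okb 9 un11 = true := by decide +kernel

theorem rel7 : U.rel 9 [23, 3, 12, 5, 3, 5, 12] 0 9 = true := by decide +kernel

theorem uok12 : Net.okb 9 un12 = true := by decide +kernel

theorem rel8 : U.rel 9 [25, 3, 5, 7, 11, 5, 3, 7, 11] 0 9 = true := by decide +kernel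

theorem uok13 : Net.okb 9 un13 = true := by decide +kernel

theorem rel9 : U.rel 9 [27, 1, 5, 3, 12, 5, 3, 12, 5, 3, 12, 5, 11] 0 9 = true := by decide +kernel

theorem uok14 : Net.okb 9 un14 = true := by decide +kernel

theorem rel10 : U.rel 9 [29, 5, 11, 7, 3, 5, 7, 3, 7] 0 9 = true := by decide +kernel

theorem uok15 : Net.okb 9 un15 = true := by decide +kernel

theorem rel11 : U.rel 9 [31, 5, 3, 5, 3, 5, 3, 5, 3] 0 9 = true := by decide +kernel

theorem uok16 : Net.okb 9 un16 = true := by decide +kernel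

theorem rel12 : U.rel 9 [33, 1, 12] 0 9 = true := by decide +kernel

theorem uok17 : Net.okb 9 un17 = true := by decide +kernel

theorem rel13 : U.rel 9 [35, 5, 3] 0 9 = true := by decide +kernel

theorem uok18 : Net.okb 9 un18 = true := by decide +kernel

theorem rel14 : U.rel 9 [37, 11, 7, 5, 12] 0 9 = true := by decide +kernel

theorem uok19 : Net.okb 9 un19 = true := by decide +kernel

theorem rel15 : U.rel 9 [39, 1, 7, 3, 7, 1] 0 9 = true := by decide +kernel

theorem uok20 : Net.okb 9 un20 = true := by decide +kernel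

theorem rel16 : U.rel 9 [41, 7, 3, 7, 11, 3, 1] 0 9 = true := by decide +kernel

theorem uok21 : Net.okb 9 un21 = true := by decide +kernel

theorem rel17 : U.rel 9 [43, 3, 5, 3, 5, 3, 5, 3, 12, 5, 3, 7, 5, 3, 7, 11, 7] 0 9 = true := by decide +kernel

theorem uok22 : Net.okb 9 un22 = true := by decide +kernel

theorem rel18 : U.rel 9 [45, 7, 9, 7, 1, 3, 5, 7, 9, 7, 11, 5, 3, 7, 9, 7] 0 9 = true := by decide +kernel

theorem uok23 : Net.okb 9 un23 = true := by decide +kernel

theorem rel19 : U.rel 9 [47, 1, 5, 3, 11, 5, 3, 5, 11] 0 9 = true := by decide +kernel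

theorem uok24 : Net.okb 9 un24 = true := by decide +kernel

theorem rel20 : U.rel 9 [49, 3, 5, 11, 5, 7, 3, 5, 7, 11, 7, 3, 5, 13] 0 9 = true := by decide +kernel

theorem uok25 : Net.okb 9 un25 = true := by decide +kernel

theorem rel21 : U.rel 9 [51, 1, 3, 5, 11, 7, 3, 5, 7, 3, 5, 7, 11, 13] 0 9 = true := by decide +kernel

theorem uok26 : Net.okb 9 un26 = true := by decide +kernel

theorem rel22 : U.rel 9 [53, 5, 7, 12, 5, 3, 5, 7, 3, 7, 11, 5, 3, 5, 3, 5, 3, 5, 3, 13] 0 9 = true := by decide +kernel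

theorem uok27 : Net.okb 9 un27 = true := by decide +kernel

theorem rel23 : U.rel 9 [55, 14, 12, 5, 11, 3, 5, 7, 3, 7, 3, 7] 0 9 = true := by decide +kernel

theorem uok28 : Net.okb 9 un28 = true := by decide +kernel

theorem rel24 : U.rel 9 [57, 14, 1, 7, 3, 5, 11, 7, 3, 5, 11, 3] 0 9 = true := by decide +kernel

theorem uok29 : Net.okb 9 un29 = true := by decide +kernel

theorem rel25 : U.rel 9 [59, 13, 12, 5, 7, 3, 7, 11, 3, 1, 7, 5, 3, 7] 0 9 = true := by decide +kernel

theorem uok30 : Net.okb 9 un30 = true := by decide +kernel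

theorem rel26 : U.rel 9 [61, 3, 7, 12, 3, 7, 3, 5, 7, 3, 5, 12, 7] 0 9 = true := by decide +kernel

theorem uok31 : Net.okb 9 un31 = true := by decide +kernel

theorem rel27 : U.rel 9 [63, 7, 9, 3, 7, 3, 7, 11, 9, 5, 11, 7, 3, 7, 3, 7, 3, 9, 7, 5, 12, 7] 0 9 = true := by decide +kernel

theorem uok32 : Net.okb 9 un32 = true := by decide +kernel

theorem rel28 : U.rel 9 [65, 11, 5, 3, 5, 3, 9, 5, 7, 3, 7, 9, 7, 1, 3, 5, 7, 9, 7, 3, 7, 12, 7] 0 9 = true := by decide +kernel

theorem gr31 : sub M30 (U.growI W29 [2, 3, 4, 5, 5, 3, 2, 1, 0, 2, 3, 4, 5, 5, 3, 2, 1, 3, 4, 5, 5, 3, 1, 3, 4] (Nat.shiftLeft 1 274)) = true := by decide +kernel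

theorem cl33 : band (U.closedW W29 M30) (sub (Nat.shiftLeft 1 274) M30) = true := by decide +kernel

theorem sz34 : sizeOk 9 M30 275 = true := by decide +kernel

theorem fx37 : U.closedW W36 (Nat.shiftLeft 1 274) = true := by decide +kernel

theorem uok33 : Net.okb 9 un33 = true := by decide +kernel

theorem rel38 : U.rel 9 [67, 9, 3, 9, 11, 11, 1, 11, 7, 1, 7, 11, 7, 3, 1, 3, 9, 1, 7, 9, 11, 3, 1, 7, 9, 3] 0 9 = true := by decide +kernel

theorem uok34 : Net.okb 9 un34 = true := by decide +kernel

theorem rel39 : U.rel 9 [69, 1, 11, 3, 1, 11, 3, 7, 9, 7, 1, 9, 3, 9, 11, 1, 9, 11, 11, 1, 1, 11, 3, 7, 9, 7] 0 9 = true := by decide +kernel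

theorem gr41 : sub M40 (U.growI W36 [1, 2, 3, 4, 4, 2, 1, 0, 2, 3, 4, 4, 2, 1, 0, 2, 3] (Nat.shiftLeft 1 2)) = true := by decide +kernel

theorem cl43 : band (U.closedW W36 M40) (sub (Nat.shiftLeft 1 2) M40) = true := by decide +kernel

theorem sz44 : sizeOk 9 M40 162 = true := by decide +kernel

theorem fx47 : U.closedW W46 (Nat.shiftLeft 1 2) = true := by decide +kernel

theorem uok35 : Net.okb 9 un35 = true := by decide +kernel

theorem rel48 : U.rel 9 [71, 69, 69, 69, 67, 69, 67, 67, 69, 67, 69, 69, 67, 67, 69, 67, 67, 69, 67, 69, 67, 69, 67, 67, 67, 67, 67, 69, 67, 69, 69, 67, 69, 67, 67, 69, 67, 67] 0 9 = true := by decide +kernel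

theorem uok36 : Net.okb 9 un36 = true := by decide +kernel

theorem rel49 : U.rel 9 [73, 67, 69, 69, 67, 69, 67, 67, 69, 67, 69, 67, 67, 67, 67] 0 9 = true := by decide +kernel

theorem gr51 : sub M50 (U.growI W46 [0, 1, 0, 0, 1, 0, 0, 1, 0, 0, 1, 0, 0, 1, 0] (Nat.shiftLeft 1 4)) = true := by decide +kernel

theorem cl53 : band (U.closedW W46 M50) (sub (Nat.shiftLeft 1 4) M50) = true := by decide +kernel

theorem sz54 : sizeOk 9 M50 105 = true := by decide +kernel

theorem fx57 : U.closedW W56 (Nat.shiftLeft 1 4) = true := by decide +kernel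

theorem uok37 : Net.okb 9 un37 = true := by decide +kernel

theorem rel58 : U.rel 9 [75, 71, 73, 73, 73, 71, 71, 73, 71, 73, 73, 71, 73, 73] 0 9 = true := by decide +kernel

theorem uok38 : Net.okb 9 un38 = true := by decide +kernel

theorem rel59 : U.rel 9 [77, 73, 71, 71, 71, 71, 71, 71, 71, 73, 71, 71, 73, 71, 73, 73, 73, 73, 73, 73] 0 9 = true := by decide +kernel

theorem gr61 : sub M60 (U.growI W56 [0, 1, 1, 0, 0, 1, 1, 0, 0, 1, 1] (Nat.shiftLeft 1 9)) = true := by decide +kernel

theorem cl63 : band (U.closedW W56 M60) (sub (Nat.shiftLeft 1 9) M60) = true := by decide +kernel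

theorem sz64 : sizeOk 9 M60 64 = true := by decide +kernel

theorem fx67 : U.closedW W66 (Nat.shiftLeft 1 9) = true := by decide +kernel

theorem gr69 : sub M68 (U.growI W66 [0, 1, 0] (Nat.shiftLeft 1 0)) = true := by decide +kernel

theorem cl71 : band (U.closedW W66 M68) (sub (Nat.shiftLeft 1 0) M68) = true := by decide +kernel

theorem sz72 : sizeOk 9 M68 6 = true := by decide +kernel

theorem gr81 : sub M80 (U.growI W79 [2, 3, 0, 0] (Nat.shiftLeft 1 15)) = true := by decide +kernel

theorem cl83 : band (U.closedW W79 M80) (sub (Nat.shiftLeft 1 15) M80) = true := by decide +kernel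

theorem sz84 : sizeOk 9 M80 5 = true := by decide +kernel

theorem fx87 : U.closedW W86 (Nat.shiftLeft 1 15) = true := by decide +kernel

theorem uok39 : Net.okb 9 un39 = true := by decide +kernel

theorem rel88 : U.rel 9 [79, 35, 35, 35, 37, 35, 45, 45, 45] 0 9 = true := by decide +kernel

theorem uok40 : Net.okb 9 un40 = true := by decide +kernel

theorem rel89 : U.rel 9 [81, 35, 43, 45, 37, 45, 35, 43, 43, 37, 43, 37, 35, 43, 45, 35, 43, 37, 43, 37, 45] 0 9 = true := by decide +kernel

theorem uok41 : Net.okb 9 un41 = true := by decide +kernel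

theorem rel90 : U.rel 9 [83, 45, 43, 37, 43, 43, 45, 45, 35, 37, 35, 35, 45, 45, 35, 35, 37, 43, 37, 43, 35, 35, 37, 43, 35, 45, 35, 37] 0 9 = true := by decide +kernel

theorem gr92 : sub M91 (U.growI W86 [0, 1, 2, 3, 3, 2, 1, 0, 0, 1, 3, 3, 1] (Nat.shiftLeft 1 0)) = true := by decide +kernel

theorem cl94 : band (U.closedW W86 M91) (sub (Nat.shiftLeft 1 0) M91) = true := by decide +kernel

theorem sz95 : sizeOk 9 M91 162 = true := by decide +kernel

theorem fx98 : U.closedW W97 (Nat.shiftLeft 1 0) = true := by decide +kernel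

theorem gr100 : sub M99 (U.growI W97 [0] (Nat.shiftLeft 1 32)) = true := by decide +kernel

theorem cl102 : band (U.closedW W97 M99) (sub (Nat.shiftLeft 1 32) M99) = true := by decide +kernel

theorem sz103 : sizeOk 9 M99 2 = true := by decide +kernel

theorem fx106 : U.closedW W105 (Nat.shiftLeft 1 32) = true := by decide +kernel

theorem gr108 : sub M107 (U.growI W105 [0, 1, 1, 0, 0, 1, 1, 0] (Nat.shiftLeft 1 233)) = true := by decide +kernel

theorem cl110 : band (U.closedW W105 M107) (sub (Nat.shiftLeft 1 233) M107) = true := by decide +kernel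

theorem sz111 : sizeOk 9 M107 18 = true := by decide +kernel

theorem fx114 : U.closedW W113 (Nat.shiftLeft 1 233) = true := by decide +kernel

theorem gr116 : sub M115 (U.growI W113 [0, 0, 0] (Nat.shiftLeft 1 1)) = true := by decide +kernel

theorem cl118 : band (U.closedW W113 M115) (sub (Nat.shiftLeft 1 1) M115) = true := by decide +kernel

theorem sz119 : sizeOk 9 M115 4 = true := by decide +kernel

theorem gr128 : sub M127 (U.growI W126 [3, 4, 1, 1] (Nat.shiftLeft 1 15)) = true := by decide +kernel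

theorem cl130 : band (U.closedW W126 M127) (sub (Nat.shiftLeft 1 15) M127) = true := by decide +kernel

theorem sz131 : sizeOk 9 M127 5 = true := by decide +kernel

theorem fx134 : U.closedW W133 (Nat.shiftLeft 1 15) = true := by decide +kernel

theorem uok42 : Net.okb 9 un42 = true := by decide +kernel

theorem rel135 : U.rel 9 [85, 17, 49, 49, 19, 47, 49, 17, 49, 17, 47, 49, 47, 19, 47, 47, 17, 17, 47, 47, 49, 47, 17, 17, 49, 47, 19, 47, 47] 0 9 = true := by decide +kernel

theorem uok43 : Net.okb 9 un43 = true := by decide +kernel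

theorem rel136 : U.rel 9 [87, 49, 17, 17, 17, 49, 17, 17, 49, 17, 49, 47, 17, 47, 17, 49, 19, 17, 19, 49, 49, 47, 19, 49, 17] 0 9 = true := by decide +kernel

theorem uok44 : Net.okb 9 un44 = true := by decide +kernel

theorem rel137 : U.rel 9 [89, 49, 19, 19, 49, 19, 49, 19, 47, 49, 19, 17, 19, 19, 17, 47, 19, 47, 19, 49, 49, 47, 19, 19, 19, 17, 17, 17, 49, 47, 19, 47, 17, 17, 47] 0 9 = true := by decide +kernel

theorem gr139 : sub M138 (U.growI W133 [0, 1, 2, 3, 3, 2, 1, 0, 1, 2, 3, 3, 2] (Nat.shiftLeft 1 0)) = true := by decide +kernel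

theorem cl141 : band (U.closedW W133 M138) (sub (Nat.shiftLeft 1 0) M138) = true := by decide +kernel

theorem sz142 : sizeOk 9 M138 162 = true := by decide +kernel

theorem fx145 : U.closedW W144 (Nat.shiftLeft 1 0) = true := by decide +kernel

theorem gr146 : sub 0x2400 (U.growI W144 [2] (Nat.shiftLeft 1 10)) = true := by decide +kernel

theorem cl148 : band (U.closedW W144 0x2400) (sub (Nat.shiftLeft 1 10) 0x2400) = true := by decide +kernel

theorem sz149 : sizeOk 9 0x2400 2 = true := by decide +kernel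

theorem fx152 : U.closedW W151 (Nat.shiftLeft 1 10) = true := by decide +kernel

theorem gr154 : sub M153 (U.growI W151 [1, 1, 0, 0, 1, 0, 0, 1] (Nat.shiftLeft 1 1)) = true := by decide +kernel

theorem cl156 : band (U.closedW W151 M153) (sub (Nat.shiftLeft 1 1) M153) = true := by decide +kernel

theorem sz157 : sizeOk 9 M153 18 = true := by decide +kernel

theorem fx160 : U.closedW W159 (Nat.shiftLeft 1 1) = true := by decide +kernel

theorem gr162 : sub M161 (U.growI W159 [0, 0, 0] (Nat.shiftLeft 1 35)) = true := by decide +kernel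

theorem cl164 : band (U.closedW W159 M161) (sub (Nat.shiftLeft 1 35) M161) = true := by decide +kernel

theorem sz165 : sizeOk 9 M161 4 = true := by decide +kernel

theorem gr173 : sub M172 (U.growI W171 [1, 5] (Nat.shiftLeft 1 32)) = true := by decide +kernel

theorem cl175 : band (U.closedW W171 M172) (sub (Nat.shiftLeft 1 32) M172) = true := by decide +kernel

theorem sz176 : sizeOk 9 M172 3 = true := by decide +kernel

theorem fx179 : U.closedW W178 (Nat.shiftLeft 1 32) = true := by decide +kernel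

theorem gr180 : sub 0x8400 (U.growI W178 [4] (Nat.shiftLeft 1 10)) = true := by decide +kernel

theorem cl182 : band (U.closedW W178 0x8400) (sub (Nat.shiftLeft 1 10) 0x8400) = true := by decide +kernel

theorem sz183 : sizeOk 9 0x8400 2 = true := by decide +kernel

theorem fx186 : U.closedW W185 (Nat.shiftLeft 1 10) = true := by decide +kernel

theorem gr188 : sub M187 (U.growI W185 [0, 3] (Nat.shiftLeft 1 27)) = true := by decide +kernel

theorem cl190 : band (U.closedW W185 M187) (sub (Nat.shiftLeft 1 27) M187) = true := by decide +kernel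

theorem sz191 : sizeOk 9 M187 3 = true := by decide +kernel

theorem fx194 : U.closedW W193 (Nat.shiftLeft 1 27) = true := by decide +kernel

theorem gr196 : sub M195 (U.growI W193 [2] (Nat.shiftLeft 1 34)) = true := by decide +kernel

theorem cl198 : band (U.closedW W193 M195) (sub (Nat.shiftLeft 1 34) M195) = true := by decide +kernel

theorem sz199 : sizeOk 9 M195 2 = true := by decide +kernel

theorem fx202 : U.closedW W201 (Nat.shiftLeft 1 34) = true := by decide +kernel

theorem gr204 : sub M203 (U.growI W201 [1, 2, 2, 1, 2] (Nat.shiftLeft 1 137)) = true := by decide +kernel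

theorem cl206 : band (U.closedW W201 M203) (sub (Nat.shiftLeft 1 137) M203) = true := by decide +kernel

theorem sz207 : sizeOk 9 M203 12 = true := by decide +kernel

theorem fx210 : U.closedW W209 (Nat.shiftLeft 1 137) = true := by decide +kernel

theorem gr212 : sub M211 (U.growI W209 [0, 0] (Nat.shiftLeft 1 0)) = true := by decide +kernel

theorem cl214 : band (U.closedW W209 M211) (sub (Nat.shiftLeft 1 0) M211) = true := by decide +kernel

theorem sz215 : sizeOk 9 M211 3 = true := by decide +kernel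

theorem uok45 : Net.okb 9 un45 = true := by decide +kernel

theorem rel223 : U.rel 9 [91, 57, 55, 55, 57, 55, 57] 0 9 = true := by decide +kernel

theorem uok46 : Net.okb 9 un46 = true := by decide +kernel

theorem rel224 : U.rel 9 [93, 55, 55, 55, 55, 55, 55, 55, 57, 57, 55, 57, 55, 57, 57, 57, 57, 55, 57, 57, 55, 55, 57, 57, 57, 55, 57, 57] 0 9 = true := by decide +kernel

theorem gr226 : sub M225 (U.growI W222 [0, 1, 1, 0, 0, 1, 1, 0, 0, 1, 1, 0, 0, 1, 1, 0, 0, 1, 1] (Nat.shiftLeft 1 35)) = true := by decide +kernel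

theorem cl228 : band (U.closedW W222 M225) (sub (Nat.shiftLeft 1 35) M225) = true := by decide +kernel

theorem sz229 : sizeOk 9 M225 240 = true := by decide +kernel

theorem fx232 : U.closedW W231 (Nat.shiftLeft 1 35) = true := by decide +kernel

theorem gr234 : sub M233 (U.growI W231 [0, 1, 1, 0, 0, 1, 1, 0, 0] (Nat.shiftLeft 1 37)) = true := by decide +kernel

theorem cl236 : band (U.closedW W231 M233) (sub (Nat.shiftLeft 1 37) M233) = true := by decide +kernel

theorem sz237 : sizeOk 9 M233 42 = true := by decide +kernel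

theorem uok47 : Net.okb 9 un47 = true := by decide +kernel

theorem rel241 : U.rel 9 [95, 61, 59, 59, 59, 59, 59, 59, 59, 59, 61, 61, 61, 59] 0 9 = true := by decide +kernel

theorem uok48 : Net.okb 9 un48 = true := by decide +kernel

theorem rel242 : U.rel 9 [97, 59, 59, 59, 61, 61, 61, 61, 61, 59, 59, 59, 59, 61, 61, 59, 59, 59, 61, 61, 59, 59, 59, 61, 59, 61] 0 9 = true := by decide +kernel

theorem gr244 : sub M243 (U.growI W240 [0, 1, 1, 0, 0, 1, 1, 0, 0, 1, 1, 0, 0, 1, 1] (Nat.shiftLeft 1 35)) = true := by decide +kernel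

theorem cl246 : band (U.closedW W240 M243) (sub (Nat.shiftLeft 1 35) M243) = true := by decide +kernel

theorem sz247 : sizeOk 9 M243 240 = true := by decide +kernel

theorem fx250 : U.closedW W249 (Nat.shiftLeft 1 35) = true := by decide +kernel

theorem gr252 : sub M251 (U.growI W249 [0, 1, 0, 0, 1] (Nat.shiftLeft 1 60)) = true := by decide +kernel

theorem cl254 : band (U.closedW W249 M251) (sub (Nat.shiftLeft 1 60) M251) = true := by decide +kernel

theorem sz255 : sizeOk 9 M251 12 = true := by decide +kernel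

theorem gr260 : sub M259 (U.growI W258 [1, 0, 0, 1, 0, 0, 1, 0, 0, 1, 0, 0, 1, 0, 0] (Nat.shiftLeft 1 248)) = true := by decide +kernel

theorem cl262 : band (U.closedW W258 M259) (sub (Nat.shiftLeft 1 248) M259) = true := by decide +kernel

theorem sz263 : sizeOk 9 M259 75 = true := by decide +kernel

theorem fx266 : U.closedW W265 (Nat.shiftLeft 1 248) = true := by decide +kernel

theorem gr268 : sub M267 (U.growI W265 [0, 0, 0, 0, 0, 0, 0, 0, 0] (Nat.shiftLeft 1 0)) = true := by decide +kernel

theorem cl270 : band (U.closedW W265 M267) (sub (Nat.shiftLeft 1 0) M267) = true := by decide +kernel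

theorem sz271 : sizeOk 9 M267 10 = true := by decide +kernel

theorem rel274 : U.rel 9 [15, 15, 15] 0 9 = true := by decide +kernel

theorem rel275 : U.rel 9 [17, 17, 17] 0 9 = true := by decide +kernel

theorem rel276 : U.rel 9 [18, 16, 17, 15] 0 9 = true := by decide +kernel

theorem rel277 : U.rel 9 [20, 16, 19, 15] 0 9 = true := by decide +kernel

theorem rel278 : U.rel 9 [22, 16, 21, 15] 0 9 = true := by decide +kernel

theorem rel279 : U.rel 9 [20, 18, 19, 17] 0 9 = true := by decide +kernel

theorem rel280 : U.rel 9 [22, 18, 21, 17] 0 9 = true := by decide +kernel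

theorem rel281 : U.rel 9 [15, 32, 15, 31] 0 9 = true := by decide +kernel

theorem rel282 : U.rel 9 [17, 32, 17, 31] 0 9 = true := by decide +kernel

theorem rel283 : U.rel 9 [18, 18, 24, 15, 23] 0 9 = true := by decide +kernel

theorem rel284 : U.rel 9 [16, 24, 17, 23] 0 9 = true := by decide +kernel

theorem rel285 : U.rel 9 [16, 16, 18, 26, 15, 25] 0 9 = true := by decide +kernel

theorem rel286 : U.rel 9 [16, 18, 26, 17, 25] 0 9 = true := by decide +kernel

theorem rel287 : U.rel 9 [16, 18, 28, 15, 27] 0 9 = true := by decide +kernel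

theorem rel288 : U.rel 9 [16, 18, 18, 28, 17, 27] 0 9 = true := by decide +kernel

theorem rel289 : U.rel 9 [29, 30, 29, 30] 0 9 = true := by decide +kernel

theorem rel290 : U.rel 9 [20, 20, 29, 16, 30, 16, 29, 15, 30, 15] 0 9 = true := by decide +kernel

theorem rel291 : U.rel 9 [29, 18, 30, 18, 29, 17, 30, 17] 0 9 = true := by decide +kernel

theorem rel292 : U.rel 9 [20, 20, 29, 16, 16, 30, 16, 16, 29, 15, 15, 30, 15, 15] 0 9 = true := by decide +kernel

theorem rel293 : U.rel 9 [29, 16, 18, 30, 16, 18, 29, 17, 15, 30, 17, 15] 0 9 = true := by decide +kernel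

theorem rel294 : U.rel 9 [29, 18, 18, 30, 18, 18, 29, 17, 17, 30, 17, 17] 0 9 = true := by decide +kernel

theorem rel295 : U.rel 9 [20, 29, 16, 16, 18, 30, 16, 16, 18, 29, 17, 15, 15, 30, 17, 15, 15] 0 9 = true := by decide +kernel

theorem rel296 : U.rel 9 [20, 29, 16, 18, 18, 30, 16, 18, 18, 29, 17, 17, 15, 30, 17, 17, 15] 0 9 = true := by decide +kernel

theorem rel297 : U.rel 9 [29, 16, 16, 18, 18, 30, 16, 16, 18, 18, 29, 17, 17, 15, 15, 30, 17, 17, 15, 15] 0 9 = true := by decide +kernel

end Cfsg.Agent.Spor.LyUP.L
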