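import Cfsg.Agent.Spor.Prim
import Cfsg.Agent.Spor.LyUP.Main
import Cfsg.Agent.Spor.LyUP.L.C0
import Cfsg.Agent.Spor.TT2
import Cfsg.Agent.Spor.DE3
import Cfsg.Agent.Spor.LyUY.D0

set_option autoImplicit false
set_option maxRecDepth 100000000
set_option Elab.async false

namespace Cfsg.Agent.Spor.LyUP.L

theorem hU : U.Ok 9 := U.ok_of 9 (show AllP (fun n => Net.okb 9 n = true) [n0, n1, n2, n3, n4, n5, n6, un7, un8, un9, un10, un11, un12, un13, un14, un15, un16, un17, un18, un19, un20, un21, un22, un23, un24, un25, un26, un27, un28, un29, un30, un31, un32, un33, un34, un35, un36, un37, un38, un39, un40, un41, un42, un43, un44, un45, un46, un47, un48] from AllP.cons ok0 (AllP.cons ok1 (AllP.cons ok2 (AllP.cons ok3 (AllP.cons ok4 (AllP.cons ok5 (AllP.cons ok6 (AllP.cons uok7 (AllP.cons uok8 (AllP.cons uok9 (AllP.cons uok10 (AllP.cons uok11 (AllP.cons uok12 (AllP.cons uok13 (AllP.cons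 uok14 (AllP.cons uok15 (AllP.cons uok16 (AllP.cons uok17 (AllP.cons uok18 (AllP.cons uok19 (AllP.cons uok20 (AllP.cons uok21 (AllP.cons uok22 (AllP.cons uok23 (AllP.cons uok24 (AllP.cons uok25 (AllP.cons uok26 (AllP.cons uok27 (AllP.cons uok28 (AllP.cons uok29 (AllP.cons uok30 (AllP.cons uok31 (AllP.cons uok32 (AllP.cons uok33 (AllP.cons uok34 (AllP.cons uok35 (AllP.cons uok36 (AllP.cons uok37 (AllP.cons uok38 (AllP.cons uok39 (AllP.cons uok40 (AllP.cons uok41 (AllP.cons uok42 (AllP.cons uok43 (AllP.cons uok44 (AllP.cons uok45 (AllP.cons uok46 (AllP.cons uok47 (AllP.cons uok48 (AllP.nil))))))))))))))))))))))))))))))))))))))))))))))))))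

theorem hfP : ∀ j < 7, U.fP [1, 3, 5, 7, 9, 11, 13] j = fP j := by
  intro j hj
  interval_cases j <;> rfl
theorem eG : gsub 7 fP = U.lsub W1 := (gsub_congr hfP).symm.trans (lsub_eq_gsub U [1, 3, 5, 7, 9, 11, 13])
theorem upz1 : ev (atm 7 fP) [0] = U.τ 1 := pz1
theorem upz3 : ev (atm 7 fP) [2] = U.τ 3 := pz2
theorem upz5 : ev (atm 7 fP) [4] = U.τ 5 := pz3
theorem upz7 : ev (atm 7 fP) [6] = U.τ 7 := pz4
theorem upz9 : ev (atm 7 fP) [8] = U.τ 9 := pz5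
theorem upz11 : ev (atm 7 fP) [10] = U.τ 11 := pz6
theorem upz13 : ev (atm 7 fP) [12] = U.τ 13 := pz7
theorem eH : wsub 7 fP BW = U.lsub W2 :=
  lsub_eq_of_all₂ (show List.Forall₂ _ [] [] from List.Forall₂.nil)
theorem vpz1 : PZ U (atm 7 fP) EXU 1 := pz1
theorem vpz2 : PZ U (atm 7 fP) EXU 2 := PZ.of_inv hiv vpz1 (by decide +kernel)
theorem vpz3 : PZ U (atm 7 fP) EXU 3 := pz2
theorem vpz4 : PZ U (atm 7 fP) EXU 4 := PZ.of_inv hiv vpz3 (by decide +kernel)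
theorem vpz5 : PZ U (atm 7 fP) EXU 5 := pz3
theorem vpz6 : PZ U (atm 7 fP) EXU 6 := PZ.of_inv hiv vpz5 (by decide +kernel)
theorem vpz7 : PZ U (atm 7 fP) EXU 7 := pz4
theorem vpz8 : PZ U (atm 7 fP) EXU 8 := PZ.of_inv hiv vpz7 (by decide +kernel)
theorem vpz9 : PZ U (atm 7 fP) EXU 9 := pz5
theorem vpz10 : PZ U (atm 7 fP) EXU 10 := PZ.of_inv hiv vpz9 (by decide +kernel)
theorem vpz11 : PZ U (atm 7 fP) EXU 11 := pz6
theorem vpz12 : PZ U (atm 7 fP) EXU 12 := PZ.of_inv hiv vpz11 (by decide +kernel)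
theorem vpz13 : PZ U (atm 7 fP) EXU 13 := pz7
theorem vpz14 : PZ U (atm 7 fP) EXU 14 := PZ.of_inv hiv vpz13 (by decide +kernel)
theorem vpz15 : PZ U (atm 7 fP) EXU 15 := PZ.of_def hiv (d := [7, 9, 7, 3, 5, 12, 7, 9, 7, 5, 3, 1, 7, 9, 7]) (AllP.cons vpz7 (AllP.cons vpz9 (AllP.cons vpz7 (AllP.cons vpz3 (AllP.cons vpz5 (AllP.cons vpz12 (AllP.cons vpz7 (AllP.cons vpz9 (AllP.cons vpz7 (AllP.cons vpz5 (AllP.cons vpz3 (AllP.cons vpz1 (AllP.cons vpz7 (AllP.cons vpz9 (AllP.cons vpz7 (AllP.nil)))))))))))))))) (hU.one rel3) (by decide +kernel)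
theorem vpz16 : PZ U (atm 7 fP) EXU 16 := PZ.of_inv hiv vpz15 (by decide +kernel)
theorem vpz17 : PZ U (atm 7 fP) EXU 17 := PZ.of_def hiv (d := [9, 7, 12, 1, 9, 7, 5, 3, 7, 9, 7, 3, 9, 7, 9, 1, 11, 7, 9]) (AllP.cons vpz9 (AllP.cons vpz7 (AllP.cons vpz12 (AllP.cons vpz1 (AllP.cons vpz9 (AllP.cons vpz7 (AllP.cons vpz5 (AllP.cons vpz3 (AllP.cons vpz7 (AllP.cons vpz9 (AllP.cons vpz7 (AllP.cons vpz3 (AllP.cons vpz9 (AllP.cons vpz7 (AllP.cons vpz9 (AllP.cons vpz1 (AllP.cons vpz11 (AllP.cons vpz7 (AllP.cons vpz9 (AllP.nil)))))))))))))))))))) (hU.one rel4) (by decide +kernel)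
theorem vpz18 : PZ U (atm 7 fP) EXU 18 := PZ.of_inv hiv vpz17 (by decide +kernel)
theorem vpz19 : PZ U (atm 7 fP) EXU 19 := PZ.of_def hiv (d := [7, 12, 7, 3, 5, 7, 3, 5, 11, 3, 5, 3, 5, 3, 5, 3]) (AllP.cons vpz7 (AllP.cons vpz12 (AllP.cons vpz7 (AllP.cons vpz3 (AllP.cons vpz5 (AllP.cons vpz7 (AllP.cons vpz3 (AllP.cons vpz5 (AllP.cons vpz11 (AllP.cons vpz3 (AllP.cons vpz5 (AllP.cons vpz3 (AllP.cons vpz5 (AllP.cons vpz3 (AllP.cons vpz5 (AllP.cons vpz3 (AllP.nil))))))))))))))))) (hU.one rel5) (by decide +kernel)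
theorem vpz20 : PZ U (atm 7 fP) EXU 20 := PZ.of_inv hiv vpz19 (by decide +kernel)
theorem vpz21 : PZ U (atm 7 fP) EXU 21 := PZ.of_def hiv (d := [5, 3, 7, 11, 5, 3, 7, 11, 5, 3, 5, 3, 5, 3, 5, 3]) (AllP.cons vpz5 (AllP.cons vpz3 (AllP.cons vpz7 (AllP.cons vpz11 (AllP.cons vpz5 (AllP.cons vpz3 (AllP.cons vpz7 (AllP.cons vpz11 (AllP.cons vpz5 (AllP.cons vpz3 (AllP.cons vpz5 (AllP.cons vpz3 (AllP.cons vpz5 (AllP.cons vpz3 (AllP.cons vpz5 (AllP.cons vpz3 (AllP.nil))))))))))))))))) (hU.one rel6) (by decide +kernel)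
theorem vpz22 : PZ U (atm 7 fP) EXU 22 := PZ.of_inv hiv vpz21 (by decide +kernel)
theorem vpz23 : PZ U (atm 7 fP) EXU 23 := PZ.of_def hiv (d := [3, 12, 5, 3, 5, 12]) (AllP.cons vpz3 (AllP.cons vpz12 (AllP.cons vpz5 (AllP.cons vpz3 (AllP.cons vpz5 (AllP.cons vpz12 (AllP.nil))))))) (hU.one rel7) (by decide +kernel)
theorem vpz24 : PZ U (atm 7 fP) EXU 24 := PZ.of_inv hiv vpz23 (by decide +kernel)
theorem vpz25 : PZ U (atm 7 fP) EXU 25 := PZ.of_def hiv (d := [3, 5, 7, 11, 5, 3, 7, 11]) (AllP.cons vpz3 (AllP.cons vpz5 (AllP.cons vpz7 (AllP.cons vpz11 (AllP.cons vpz5 (AllP.cons vpz3 (AllP.cons vpz7 (AllP.cons vpz11 (AllP.nil))))))))) (hU.one rel8) (by decide +kernel)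
theorem vpz26 : PZ U (atm 7 fP) EXU 26 := PZ.of_inv hiv vpz25 (by decide +kernel)
theorem vpz27 : PZ U (atm 7 fP) EXU 27 := PZ.of_def hiv (d := [1, 5, 3, 12, 5, 3, 12, 5, 3, 12, 5, 11]) (AllP.cons vpz1 (AllP.cons vpz5 (AllP.cons vpz3 (AllP.cons vpz12 (AllP.cons vpz5 (AllP.cons vpz3 (AllP.cons vpz12 (AllP.cons vpz5 (AllP.cons vpz3 (AllP.cons vpz12 (AllP.cons vpz5 (AllP.cons vpz11 (AllP.nil))))))))))))) (hU.one rel9) (by decide +kernel)
theorem vpz28 : PZ U (atm 7 fP) EXU 28 := PZ.of_inv hiv vpz27 (by decide +kernel)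
theorem vpz29 : PZ U (atm 7 fP) EXU 29 := PZ.of_def hiv (d := [5, 11, 7, 3, 5, 7, 3, 7]) (AllP.cons vpz5 (AllP.cons vpz11 (AllP.cons vpz7 (AllP.cons vpz3 (AllP.cons vpz5 (AllP.cons vpz7 (AllP.cons vpz3 (AllP.cons vpz7 (AllP.nil))))))))) (hU.one rel10) (by decide +kernel)
theorem vpz30 : PZ U (atm 7 fP) EXU 30 := PZ.of_inv hiv vpz29 (by decide +kernel)
theorem vpz31 : PZ U (atm 7 fP) EXU 31 := PZ.of_def hiv (d := [5, 3, 5, 3, 5, 3, 5, 3]) (AllP.cons vpz5 (AllP.cons vpz3 (AllP.cons vpz5 (AllP.cons vpz3 (AllP.cons vpz5 (AllP.cons vpz3 (AllP.cons vpz5 (AllP.cons vpz3 (AllP.nil))))))))) (hU.one rel11) (by decide +kernel)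
theorem vpz32 : PZ U (atm 7 fP) EXU 32 := PZ.of_inv hiv vpz31 (by decide +kernel)
theorem vpz33 : PZ U (atm 7 fP) EXU 33 := PZ.of_def hiv (d := [1, 12]) (AllP.cons vpz1 (AllP.cons vpz12 (AllP.nil))) (hU.one rel12) (by decide +kernel)
theorem vpz34 : PZ U (atm 7 fP) EXU 34 := PZ.of_inv hiv vpz33 (by decide +kernel)
theorem vpz35 : PZ U (atm 7 fP) EXU 35 := PZ.of_def hiv (d := [5, 3]) (AllP.cons vpz5 (AllP.cons vpz3 (AllP.nil))) (hU.one rel13) (by decide +kernel)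
theorem vpz36 : PZ U (atm 7 fP) EXU 36 := PZ.of_inv hiv vpz35 (by decide +kernel)
theorem vpz37 : PZ U (atm 7 fP) EXU 37 := PZ.of_def hiv (d := [11, 7, 5, 12]) (AllP.cons vpz11 (AllP.cons vpz7 (AllP.cons vpz5 (AllP.cons vpz12 (AllP.nil))))) (hU.one rel14) (by decide +kernel)
theorem vpz38 : PZ U (atm 7 fP) EXU 38 := PZ.of_inv hiv vpz37 (by decide +kernel)
theorem vpz39 : PZ U (atm 7 fP) EXU 39 := PZ.of_def hiv (d := [1, 7, 3, 7, 1]) (AllP.cons vpz1 (AllP.cons vpz7 (AllP.cons vpz3 (AllP.cons vpz7 (AllP.cons vpz1 (AllP.nil)))))) (hU.one rel15) (by decide +kernel)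
theorem vpz40 : PZ U (atm 7 fP) EXU 40 := PZ.of_inv hiv vpz39 (by decide +kernel)
theorem vpz41 : PZ U (atm 7 fP) EXU 41 := PZ.of_def hiv (d := [7, 3, 7, 11, 3, 1]) (AllP.cons vpz7 (AllP.cons vpz3 (AllP.cons vpz7 (AllP.cons vpz11 (AllP.cons vpz3 (AllP.cons vpz1 (AllP.nil))))))) (hU.one rel16) (by decide +kernel)
theorem vpz42 : PZ U (atm 7 fP) EXU 42 := PZ.of_inv hiv vpz41 (by decide +kernel)
theorem vpz43 : PZ U (atm 7 fP) EXU 43 := PZ.of_def hiv (d := [3, 5, 3, 5, 3, 5, 3, 12, 5, 3, 7, 5, 3, 7, 11, 7]) (AllP.cons vpz3 (AllP.cons vpz5 (AllP.cons vpz3 (AllP.cons vpz5 (AllP.cons vpz3 (AllP.cons vpz5 (AllP.cons vpz3 (AllP.cons vpz12 (AllP.cons vpz5 (AllP.cons vpz3 (AllP.cons vpz7 (AllP.cons vpz5 (AllP.cons vpz3 (AllP.cons vpz7 (AllP.cons vpz11 (AllP.cons vpz7 (AllP.nil))))))))))))))))) (hU.one rel17) (by decide +kernel)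
theorem vpz44 : PZ U (atm 7 fP) EXU 44 := PZ.of_inv hiv vpz43 (by decide +kernel)
theorem vpz45 : PZ U (atm 7 fP) EXU 45 := PZ.of_def hiv (d := [7, 9, 7, 1, 3, 5, 7, 9, 7, 11, 5, 3, 7, 9, 7]) (AllP.cons vpz7 (AllP.cons vpz9 (AllP.cons vpz7 (AllP.cons vpz1 (AllP.cons vpz3 (AllP.cons vpz5 (AllP.cons vpz7 (AllP.cons vpz9 (AllP.cons vpz7 (AllP.cons vpz11 (AllP.cons vpz5 (AllP.cons vpz3 (AllP.cons vpz7 (AllP.cons vpz9 (AllP.cons vpz7 (AllP.nil)))))))))))))))) (hU.one rel18) (by decide +kernel)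
theorem vpz46 : PZ U (atm 7 fP) EXU 46 := PZ.of_inv hiv vpz45 (by decide +kernel)
theorem vpz47 : PZ U (atm 7 fP) EXU 47 := PZ.of_def hiv (d := [1, 5, 3, 11, 5, 3, 5, 11]) (AllP.cons vpz1 (AllP.cons vpz5 (AllP.cons vpz3 (AllP.cons vpz11 (AllP.cons vpz5 (AllP.cons vpz3 (AllP.cons vpz5 (AllP.cons vpz11 (AllP.nil))))))))) (hU.one rel19) (by decide +kernel)
theorem vpz48 : PZ U (atm 7 fP) EXU 48 := PZ.of_inv hiv vpz47 (by decide +kernel)
theorem vpz49 : PZ U (atm 7 fP) EXU 49 := PZ.of_def hiv (d := [3, 5, 11, 5, 7, 3, 5, 7, 11, 7, 3, 5, 13]) (AllP.cons vpz3 (AllP.cons vpz5 (AllP.cons vpz11 (AllP.cons vpz5 (AllP.cons vpz7 (AllP.cons vpz3 (AllP.cons vpz5 (AllP.cons vpz7 (AllP.cons vpz11 (AllP.cons vpz7 (AllP.cons vpz3 (AllP.cons vpz5 (AllP.cons vpz13 (AllP.nil)))))))))))))) (hU.one rel20) (by decide +kernel)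
theorem vpz50 : PZ U (atm 7 fP) EXU 50 := PZ.of_inv hiv vpz49 (by decide +kernel)
theorem vpz51 : PZ U (atm 7 fP) EXU 51 := PZ.of_def hiv (d := [1, 3, 5, 11, 7, 3, 5, 7, 3, 5, 7, 11, 13]) (AllP.cons vpz1 (AllP.cons vpz3 (AllP.cons vpz5 (AllP.cons vpz11 (AllP.cons vpz7 (AllP.cons vpz3 (AllP.cons vpz5 (AllP.cons vpz7 (AllP.cons vpz3 (AllP.cons vpz5 (AllP.cons vpz7 (AllP.cons vpz11 (AllP.cons vpz13 (AllP.nil)))))))))))))) (hU.one rel21) (by decide +kernel)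
theorem vpz52 : PZ U (atm 7 fP) EXU 52 := PZ.of_inv hiv vpz51 (by decide +kernel)
theorem vpz53 : PZ U (atm 7 fP) EXU 53 := PZ.of_def hiv (d := [5, 7, 12, 5, 3, 5, 7, 3, 7, 11, 5, 3, 5, 3, 5, 3, 5, 3, 13]) (AllP.cons vpz5 (AllP.cons vpz7 (AllP.cons vpz12 (AllP.cons vpz5 (AllP.cons vpz3 (AllP.cons vpz5 (AllP.cons vpz7 (AllP.cons vpz3 (AllP.cons vpz7 (AllP.cons vpz11 (AllP.cons vpz5 (AllP.cons vpz3 (AllP.cons vpz5 (AllP.cons vpz3 (AllP.cons vpz5 (AllP.cons vpz3 (AllP.cons vpz5 (AllP.cons vpz3 (AllP.cons vpz13 (AllP.nil)))))))))))))))))))) (hU.one rel22) (by decide +kernel)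
theorem vpz54 : PZ U (atm 7 fP) EXU 54 := PZ.of_inv hiv vpz53 (by decide +kernel)
theorem vpz55 : PZ U (atm 7 fP) EXU 55 := PZ.of_def hiv (d := [14, 12, 5, 11, 3, 5, 7, 3, 7, 3, 7]) (AllP.cons vpz14 (AllP.cons vpz12 (AllP.cons vpz5 (AllP.cons vpz11 (AllP.cons vpz3 (AllP.cons vpz5 (AllP.cons vpz7 (AllP.cons vpz3 (AllP.cons vpz7 (AllP.cons vpz3 (AllP.cons vpz7 (AllP.nil)))))))))))) (hU.one rel23) (by decide +kernel)
theorem vpz56 : PZ U (atm 7 fP) EXU 56 := PZ.of_inv hiv vpz55 (by decide +kernel)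
theorem vpz57 : PZ U (atm 7 fP) EXU 57 := PZ.of_def hiv (d := [14, 1, 7, 3, 5, 11, 7, 3, 5, 11, 3]) (AllP.cons vpz14 (AllP.cons vpz1 (AllP.cons vpz7 (AllP.cons vpz3 (AllP.cons vpz5 (AllP.cons vpz11 (AllP.cons vpz7 (AllP.cons vpz3 (AllP.cons vpz5 (AllP.cons vpz11 (AllP.cons vpz3 (AllP.nil)))))))))))) (hU.one rel24) (by decide +kernel)
theorem vpz58 : PZ U (atm 7 fP) EXU 58 := PZ.of_inv hiv vpz57 (by decide +kernel)
theorem vpz59 : PZ U (atm 7 fP) EXU 59 := PZ.of_def hiv (d := [13, 12, 5, 7, 3, 7, 11, 3, 1, 7, 5, 3, 7]) (AllP.cons vpz13 (AllP.cons vpz12 (AllP.cons vpz5 (AllP.cons vpz7 (AllP.cons vpz3 (AllP.cons vpz7 (AllP.cons vpz11 (AllP.cons vpz3 (AllP.cons vpz1 (AllP.cons vpz7 (AllP.cons vpz5 (AllP.cons vpz3 (AllP.cons vpz7 (AllP.nil)))))))))))))) (hU.one rel25) (by decide +kernel)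
theorem vpz60 : PZ U (atm 7 fP) EXU 60 := PZ.of_inv hiv vpz59 (by decide +kernel)
theorem vpz61 : PZ U (atm 7 fP) EXU 61 := PZ.of_def hiv (d := [3, 7, 12, 3, 7, 3, 5, 7, 3, 5, 12, 7]) (AllP.cons vpz3 (AllP.cons vpz7 (AllP.cons vpz12 (AllP.cons vpz3 (AllP.cons vpz7 (AllP.cons vpz3 (AllP.cons vpz5 (AllP.cons vpz7 (AllP.cons vpz3 (AllP.cons vpz5 (AllP.cons vpz12 (AllP.cons vpz7 (AllP.nil))))))))))))) (hU.one rel26) (by decide +kernel)
theorem vpz62 : PZ U (atm 7 fP) EXU 62 := PZ.of_inv hiv vpz61 (by decide +kernel)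
theorem vpz63 : PZ U (atm 7 fP) EXU 63 := PZ.of_def hiv (d := [7, 9, 3, 7, 3, 7, 11, 9, 5, 11, 7, 3, 7, 3, 7, 3, 9, 7, 5, 12, 7]) (AllP.cons vpz7 (AllP.cons vpz9 (AllP.cons vpz3 (AllP.cons vpz7 (AllP.cons vpz3 (AllP.cons vpz7 (AllP.cons vpz11 (AllP.cons vpz9 (AllP.cons vpz5 (AllP.cons vpz11 (AllP.cons vpz7 (AllP.cons vpz3 (AllP.cons vpz7 (AllP.cons vpz3 (AllP.cons vpz7 (AllP.cons vpz3 (AllP.cons vpz9 (AllP.cons vpz7 (AllP.cons vpz5 (AllP.cons vpz12 (AllP.cons vpz7 (AllP.nil)))))))))))))))))))))) (hU.one rel27) (by decide +kernel)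
theorem vpz64 : PZ U (atm 7 fP) EXU 64 := PZ.of_inv hiv vpz63 (by decide +kernel)
theorem vpz65 : PZ U (atm 7 fP) EXU 65 := PZ.of_def hiv (d := [11, 5, 3, 5, 3, 9, 5, 7, 3, 7, 9, 7, 1, 3, 5, 7, 9, 7, 3, 7, 12, 7]) (AllP.cons vpz11 (AllP.cons vpz5 (AllP.cons vpz3 (AllP.cons vpz5 (AllP.cons vpz3 (AllP.cons vpz9 (AllP.cons vpz5 (AllP.cons vpz7 (AllP.cons vpz3 (AllP.cons vpz7 (AllP.cons vpz9 (AllP.cons vpz7 (AllP.cons vpz1 (AllP.cons vpz3 (AllP.cons vpz5 (AllP.cons vpz7 (AllP.cons vpz9 (AllP.cons vpz7 (AllP.cons vpz3 (AllP.cons vpz7 (AllP.cons vpz12 (AllP.cons vpz7 (AllP.nil))))))))))))))))))))))) (hU.one rel28) (by decide +kernel)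
theorem vpz66 : PZ U (atm 7 fP) EXU 66 := PZ.of_inv hiv vpz65 (by decide +kernel)
theorem hPZU : AllP (PZ U (atm 7 fP) EXU) LU :=
  show AllP (PZ U (atm 7 fP) EXU) [1, 2, 3, 4, 5, 6, 7, 8, 9, 10, 11, 12, 13, 14, 15, 16, 17, 18, 19, 20, 21, 22, 23, 24, 25, 26, 27, 28, 29, 30, 31, 32, 33, 34, 35, 36, 37, 38, 39, 40, 41, 42, 43, 44, 45, 46, 47, 48, 49, 50, 51, 52, 53, 54, 55, 56, 57, 58, 59, 60, 61, 62, 63, 64, 65, 66] from AllP.cons vpz1 (AllP.cons vpz2 (AllP.cons vpz3 (AllP.cons vpz4 (AllP.cons vpz5 (AllP.cons vpz6 (AllP.cons vpz7 (AllP.cons vpz8 (AllP.cons vpz9 (AllP.cons vpz10 (AllP.cons vpz11 (AllP.cons vpz12 (AllP.cons vpz13 (AllP.cons vpz14 (AllP.cons vpz15 (AllP.cons vpz16 (AllP.cons vpz17 (AllP.cons vpz18 (AllP.cons vpz19 (AllP.cons vpz20 (AllP.cons vpz21 (AllP.cons vpz22 (AllP.cons vpz23 (AllP.cons vpz24 (AllP.cons vpz25 (AllP.cons vpz26 (AllP.cons vpz27 (AllP.cons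 vpz28 (AllP.cons vpz29 (AllP.cons vpz30 (AllP.cons vpz31 (AllP.cons vpz32 (AllP.cons vpz33 (AllP.cons vpz34 (AllP.cons vpz35 (AllP.cons vpz36 (AllP.cons vpz37 (AllP.cons vpz38 (AllP.cons vpz39 (AllP.cons vpz40 (AllP.cons vpz41 (AllP.cons vpz42 (AllP.cons vpz43 (AllP.cons vpz44 (AllP.cons vpz45 (AllP.cons vpz46 (AllP.cons vpz47 (AllP.cons vpz48 (AllP.cons vpz49 (AllP.cons vpz50 (AllP.cons vpz51 (AllP.cons vpz52 (AllP.cons vpz53 (AllP.cons vpz54 (AllP.cons vpz55 (AllP.cons vpz56 (AllP.cons vpz57 (AllP.cons vpz58 (AllP.cons vpz59 (AllP.cons vpz60 (AllP.cons vpz61 (AllP.cons vpz62 (AllP.cons vpz63 (AllP.cons vpz64 (AllP.cons vpz65 (AllP.cons vpz66 (AllP.nil))))))))))))))))))))))))))))))))))))))))))))))))))))))))))))))))))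
theorem reach32 : Reach (U.lsub W29) 274 M30 := (Reach.grow hU (Reach.base _ 274) gr31)
theorem orb35 : (orbS (U.lsub W29) 274).ncard = 275 := reach32.ncard hU cl33 sz34
theorem orb35e : orbS (U.lsub W29) 274 = {c | Nat.testBit M30 c = true} := reach32.orb hU cl33
theorem reach42 : Reach (U.lsub W36) 2 M40 := (Reach.grow hU (Reach.base _ 2) gr41)
theorem orb45 : (orbS (U.lsub W36) 2).ncard = 162 := reach42.ncard hU cl43 sz44
theorem orb45e : orbS (U.lsub W36) 2 = {c | Nat.testBit M40 c = true} := reach42.orb hU cl43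
theorem reach52 : Reach (U.lsub W46) 4 M50 := (Reach.grow hU (Reach.base _ 4) gr51)
theorem orb55 : (orbS (U.lsub W46) 4).ncard = 105 := reach52.ncard hU cl53 sz54
theorem orb55e : orbS (U.lsub W46) 4 = {c | Nat.testBit M50 c = true} := reach52.orb hU cl53
theorem reach62 : Reach (U.lsub W56) 9 M60 := (Reach.grow hU (Reach.base _ 9) gr61)
theorem orb65 : (orbS (U.lsub W56) 9).ncard = 64 := reach62.ncard hU cl63 sz64
theorem orb65e : orbS (U.lsub W56) 9 = {c | Nat.testBit M60 c = true} := reach62.orb hU cl63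
theorem reach70 : Reach (U.lsub W66) 0 M68 := (Reach.grow hU (Reach.base _ 0) gr69)
theorem orb73 : (orbS (U.lsub W66) 0).ncard = 6 := reach70.ncard hU cl71 sz72
theorem orb73e : orbS (U.lsub W66) 0 = {c | Nat.testBit M68 c = true} := reach70.orb hU cl71
theorem lb074 : 6 ∣ Nat.card (U.lsub W66) := dvd_card_orb orb73
theorem lb075 : 384 ∣ Nat.card (U.lsub W56) :=
  dvd_card_step (s := 64) (M := 6) (B := U.lsub W66) (Tab.lsub_le_all (AllP.cons (mem_of_rel (hU.one rel58) (U.mem_letters (by decide))) (AllP.cons (mem_of_rel (hU.one rel59) (U.mem_letters (by decide))) (AllP.nil)))) (hU.fixes fx67) orb65 lb074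
theorem lb076 : 40320 ∣ Nat.card (U.lsub W46) :=
  dvd_card_step (s := 105) (M := 384) (B := U.lsub W56) (Tab.lsub_le_all (AllP.cons (mem_of_rel (hU.one rel48) (U.mem_letters (by decide))) (AllP.cons (mem_of_rel (hU.one rel49) (U.mem_letters (by decide))) (AllP.nil)))) (hU.fixes fx57) orb55 lb075
theorem lb077 : 6531840 ∣ Nat.card (U.lsub W36) :=
  dvd_card_step (s := 162) (M := 40320) (B := U.lsub W46) (Tab.lsub_le_all (AllP.cons (mem_of_rel (hU.one rel38) (U.mem_letters (by decide))) (AllP.cons (mem_of_rel (hU.one rel39) (U.mem_letters (by decide))) (AllP.nil)))) (hU.fixes fx47) orb45 lb076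
theorem lb0 : 1796256000 ∣ Nat.card (U.lsub W29) :=
  dvd_card_step (s := 275) (M := 6531840) (B := U.lsub W36) (U.lsub_sub (by decide)) (hU.fixes fx37) orb35 lb077
theorem lb : 1796256000 ∣ Nat.card (gsub 7 fP) := by
  rw [eG]; exact lb0.trans (Subgroup.card_dvd_of_le (U.lsub_sub (by decide)))
theorem eL : wsub 7 fP [[13], [4, 2], [11, 6, 4, 10], [0, 6, 2, 6, 0], [6, 2, 6, 11, 2, 0], [2, 4, 2, 4, 2, 4, 2, 10, 4, 2, 6, 4, 2, 6, 11, 6], [6, 8, 6, 0, 2, 4, 6, 8, 6, 11, 4, 2, 6, 8, 6]] = U.lsub W78 :=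
  lsub_eq_of_all₂ (show List.Forall₂ _ [[13], [4, 2], [11, 6, 4, 10], [0, 6, 2, 6, 0], [6, 2, 6, 11, 2, 0], [2, 4, 2, 4, 2, 4, 2, 10, 4, 2, 6, 4, 2, 6, 11, 6], [6, 8, 6, 0, 2, 4, 6, 8, 6, 11, 4, 2, 6, 8, 6]] [[14], [35], [37], [39], [41], [43], [45]] from List.Forall₂.cons ((show ev (atm 7 fP) [13] = U.τ 14 from vpz14).trans (one_mul _).symm) (List.Forall₂.cons ((show ev (atm 7 fP) [4, 2] = U.τ 35 from vpz35).trans (one_mul _).symm) (List.Forall₂.cons ((show ev (atm 7 fP) [11, 6, 4, 10] = U.τ 37 from vpz37).trans (one_mul _).symm) (List.Forall₂.cons ((show ev (atm 7 fP) [0, 6, 2, 6, 0] = U.τ 39 from vpz39).trans (one_mul _).symm) (List.Forall₂.cons ((show ev (atm 7 fP) [6, 2, 6, 11, 2, 0] = U.τ 41 from vpz41).trans (one_mul _).symm) (List.Forall₂.cons ((show ev (atm 7 fP) [2, 4, 2, 4, 2, 4, 2, 10, 4, 2, 6, 4, 2, 6, 11, 6] = U.τ 43 from vpz43).trans (one_mul _).symm) (List.Forall₂.cons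 ((show ev (atm 7 fP) [6, 8, 6, 0, 2, 4, 6, 8, 6, 11, 4, 2, 6, 8, 6] = U.τ 45 from vpz45).trans (one_mul _).symm) (List.Forall₂.nil))))))))
theorem reach82 : Reach (U.lsub W79) 15 M80 := (Reach.grow hU (Reach.base _ 15) gr81)
theorem orb85 : (orbS (U.lsub W79) 15).ncard = 5 := reach82.ncard hU cl83 sz84
theorem orb85e : orbS (U.lsub W79) 15 = {c | Nat.testBit M80 c = true} := reach82.orb hU cl83
theorem reach93 : Reach (U.lsub W86) 0 M91 := (Reach.grow hU (Reach.base _ 0) gr92)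
theorem orb96 : (orbS (U.lsub W86) 0).ncard = 162 := reach93.ncard hU cl94 sz95
theorem orb96e : orbS (U.lsub W86) 0 = {c | Nat.testBit M91 c = true} := reach93.orb hU cl94
theorem reach101 : Reach (U.lsub W97) 32 M99 := (Reach.grow hU (Reach.base _ 32) gr100)
theorem orb104 : (orbS (U.lsub W97) 32).ncard = 2 := reach101.ncard hU cl102 sz103
theorem orb104e : orbS (U.lsub W97) 32 = {c | Nat.testBit M99 c = true} := reach101.orb hU cl102
theorem reach109 : Reach (U.lsub W105) 233 M107 := (Reach.grow hU (Reach.base _ 233) gr108)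
theorem orb112 : (orbS (U.lsub W105) 233).ncard = 18 := reach109.ncard hU cl110 sz111
theorem orb112e : orbS (U.lsub W105) 233 = {c | Nat.testBit M107 c = true} := reach109.orb hU cl110
theorem reach117 : Reach (U.lsub W113) 1 M115 := (Reach.grow hU (Reach.base _ 1) gr116)
theorem orb120 : (orbS (U.lsub W113) 1).ncard = 4 := reach117.ncard hU cl118 sz119
theorem orb120e : orbS (U.lsub W113) 1 = {c | Nat.testBit M115 c = true} := reach117.orb hU cl118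
theorem lbL121 : 4 ∣ Nat.card (U.lsub W113) := dvd_card_orb orb120
theorem lbL122 : 72 ∣ Nat.card (U.lsub W105) :=
  dvd_card_step (s := 18) (M := 4) (B := U.lsub W113) (U.lsub_sub (by decide)) (hU.fixes fx114) orb112 lbL121
theorem lbL123 : 144 ∣ Nat.card (U.lsub W97) :=
  dvd_card_step (s := 2) (M := 72) (B := U.lsub W105) (U.lsub_sub (by decide)) (hU.fixes fx106) orb104 lbL122
theorem lbL124 : 23328 ∣ Nat.card (U.lsub W86) :=
  dvd_card_step (s := 162) (M := 144) (B := U.lsub W97) (Tab.lsub_le_all (AllP.cons (mem_of_rel (hU.one rel88) (U.mem_letters (by decide))) (AllP.cons (mem_of_rel (hU.one rel89) (U.mem_letters (by decide))) (AllP.cons (mem_of_rel (hU.one rel90) (U.mem_letters (by decide))) (AllP.nil))))) (hU.fixes fx98) orb96 lbL123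
theorem lbL : 116640 ∣ Nat.card (U.lsub W79) :=
  dvd_card_step (s := 5) (M := 23328) (B := U.lsub W86) (U.lsub_sub (by decide)) (hU.fixes fx87) orb85 lbL124
theorem cardL : 116640 ∣ Nat.card (wsub 7 fP [[13], [4, 2], [11, 6, 4, 10], [0, 6, 2, 6, 0], [6, 2, 6, 11, 2, 0], [2, 4, 2, 4, 2, 4, 2, 10, 4, 2, 6, 4, 2, 6, 11, 6], [6, 8, 6, 0, 2, 4, 6, 8, 6, 11, 4, 2, 6, 8, 6]]) := by
  rw [eL]; exact lbL.trans (Subgroup.card_dvd_of_le (U.lsub_sub (by decide)))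
theorem eV : wsub 7 fP [[6, 10, 6, 2, 4, 6, 2, 4, 11, 2, 4, 2, 4, 2, 4, 2], [0, 4, 2, 11, 4, 2, 4, 11], [2, 4, 11, 4, 6, 2, 4, 6, 11, 6, 2, 4, 13], [0, 2, 4, 11, 6, 2, 4, 6, 2, 4, 6, 11, 13], [4, 6, 10, 4, 2, 4, 6, 2, 6, 11, 4, 2, 4, 2, 4, 2, 4, 2, 13], [13], [8, 6, 10, 0, 8, 6, 4, 2, 6, 8, 6, 2, 8, 6, 8, 0, 11, 6, 8]] = U.lsub W125 :=
  lsub_eq_of_all₂ (show List.Forall₂ _ [[6, 10, 6, 2, 4, 6, 2, 4, 11, 2, 4, 2, 4, 2, 4, 2], [0, 4, 2, 11, 4, 2, 4, 11], [2, 4, 11, 4, 6, 2, 4, 6, 11, 6, 2, 4, 13], [0, 2, 4, 11, 6, 2, 4, 6, 2, 4, 6, 11, 13], [4, 6, 10, 4, 2, 4, 6, 2, 6, 11, 4, 2, 4, 2, 4, 2, 4, 2, 13], [13], [8, 6, 10, 0, 8, 6, 4, 2, 6, 8, 6, 2, 8, 6, 8, 0, 11, 6, 8]] [[19], [47], [49], [51], [53], [14], [17]] from List.Forall₂.cons ((show ev (atm 7 fP) [6, 10, 6, 2, 4, 6, 2, 4, 11, 2, 4, 2, 4, 2, 4, 2] = U.τ 19 from vpz19).trans (one_mul _).symm) (List.Forall₂.cons ((show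 ev (atm 7 fP) [0, 4, 2, 11, 4, 2, 4, 11] = U.τ 47 from vpz47).trans (one_mul _).symm) (List.Forall₂.cons ((show ev (atm 7 fP) [2, 4, 11, 4, 6, 2, 4, 6, 11, 6, 2, 4, 13] = U.τ 49 from vpz49).trans (one_mul _).symm) (List.Forall₂.cons ((show ev (atm 7 fP) [0, 2, 4, 11, 6, 2, 4, 6, 2, 4, 6, 11, 13] = U.τ 51 from vpz51).trans (one_mul _).symm) (List.Forall₂.cons ((show ev (atm 7 fP) [4, 6, 10, 4, 2, 4, 6, 2, 6, 11, 4, 2, 4, 2, 4, 2, 4, 2, 13] = U.τ 53 from vpz53).trans (one_mul _).symm) (List.Forall₂.cons ((show ev (atm 7 fP) [13] = U.τ 14 from vpz14).trans (one_mul _).symm) (List.Forall₂.cons ((show ev (atm 7 fP) [8, 6, 10, 0, 8, 6, 4, 2, 6, 8, 6, 2, 8, 6, 8, 0, 11, 6, 8] = U.τ 17 from vpz17).trans (one_mul _).symm) (List.Forall₂.nil))))))))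
theorem reach129 : Reach (U.lsub W126) 15 M127 := (Reach.grow hU (Reach.base _ 15) gr128)
theorem orb132 : (orbS (U.lsub W126) 15).ncard = 5 := reach129.ncard hU cl130 sz131
theorem orb132e : orbS (U.lsub W126) 15 = {c | Nat.testBit M127 c = true} := reach129.orb hU cl130
theorem reach140 : Reach (U.lsub W133) 0 M138 := (Reach.grow hU (Reach.base _ 0) gr139)
theorem orb143 : (orbS (U.lsub W133) 0).ncard = 162 := reach140.ncard hU cl141 sz142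
theorem orb143e : orbS (U.lsub W133) 0 = {c | Nat.testBit M138 c = true} := reach140.orb hU cl141
theorem reach147 : Reach (U.lsub W144) 10 0x2400 := (Reach.grow hU (Reach.base _ 10) gr146)
theorem orb150 : (orbS (U.lsub W144) 10).ncard = 2 := reach147.ncard hU cl148 sz149
theorem orb150e : orbS (U.lsub W144) 10 = {c | Nat.testBit 0x2400 c = true} := reach147.orb hU cl148
theorem reach155 : Reach (U.lsub W151) 1 M153 := (Reach.grow hU (Reach.base _ 1) gr154)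
theorem orb158 : (orbS (U.lsub W151) 1).ncard = 18 := reach155.ncard hU cl156 sz157
theorem orb158e : orbS (U.lsub W151) 1 = {c | Nat.testBit M153 c = true} := reach155.orb hU cl156
theorem reach163 : Reach (U.lsub W159) 35 M161 := (Reach.grow hU (Reach.base _ 35) gr162)
theorem orb166 : (orbS (U.lsub W159) 35).ncard = 4 := reach163.ncard hU cl164 sz165
theorem orb166e : orbS (U.lsub W159) 35 = {c | Nat.testBit M161 c = true} := reach163.orb hU cl164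
theorem lbV167 : 4 ∣ Nat.card (U.lsub W159) := dvd_card_orb orb166
theorem lbV168 : 72 ∣ Nat.card (U.lsub W151) :=
  dvd_card_step (s := 18) (M := 4) (B := U.lsub W159) (U.lsub_sub (by decide)) (hU.fixes fx160) orb158 lbV167
theorem lbV169 : 144 ∣ Nat.card (U.lsub W144) :=
  dvd_card_step (s := 2) (M := 72) (B := U.lsub W151) (U.lsub_sub (by decide)) (hU.fixes fx152) orb150 lbV168
theorem lbV170 : 23328 ∣ Nat.card (U.lsub W133) :=
  dvd_card_step (s := 162) (M := 144) (B := U.lsub W144) (Tab.lsub_le_all (AllP.cons (mem_of_rel (hU.one rel135) (U.mem_letters (by decide))) (AllP.cons (mem_of_rel (hU.one rel136) (U.mem_letters (by decide))) (AllP.cons (mem_of_rel (hU.one rel137) (U.mem_letters (by decide))) (AllP.nil))))) (hU.fixes fx145) orb143 lbV169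
theorem lbV : 116640 ∣ Nat.card (U.lsub W126) :=
  dvd_card_step (s := 5) (M := 23328) (B := U.lsub W133) (U.lsub_sub (by decide)) (hU.fixes fx134) orb132 lbV170
theorem cardV : 116640 ∣ Nat.card (wsub 7 fP [[6, 10, 6, 2, 4, 6, 2, 4, 11, 2, 4, 2, 4, 2, 4, 2], [0, 4, 2, 11, 4, 2, 4, 11], [2, 4, 11, 4, 6, 2, 4, 6, 11, 6, 2, 4, 13], [0, 2, 4, 11, 6, 2, 4, 6, 2, 4, 6, 11, 13], [4, 6, 10, 4, 2, 4, 6, 2, 6, 11, 4, 2, 4, 2, 4, 2, 4, 2, 13], [13], [8, 6, 10, 0, 8, 6, 4, 2, 6, 8, 6, 2, 8, 6, 8, 0, 11, 6, 8]]) := by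
  rw [eV]; exact lbV.trans (Subgroup.card_dvd_of_le (U.lsub_sub (by decide)))
theorem eB : wsub 7 fP [[6, 10, 6, 2, 4, 6, 2, 4, 11, 2, 4, 2, 4, 2, 4, 2], [4, 2, 6, 11, 4, 2, 6, 11, 4, 2, 4, 2, 4, 2, 4, 2], [6, 8, 6, 2, 4, 10, 6, 8, 6, 4, 2, 0, 6, 8, 6], [8, 6, 10, 0, 8, 6, 4, 2, 6, 8, 6, 2, 8, 6, 8, 0, 11, 6, 8], [2, 10, 4, 2, 4, 10], [2, 4, 6, 11, 4, 2, 6, 11], [0, 4, 2, 10, 4, 2, 10, 4, 2, 10, 4, 11]] = U.lsub W171 :=
  lsub_eq_of_all₂ (show List.Forall₂ _ [[6, 10, 6, 2, 4, 6, 2, 4, 11, 2, 4, 2, 4, 2, 4, 2], [4, 2, 6, 11, 4, 2, 6, 11, 4, 2, 4, 2, 4, 2, 4, 2], [6, 8, 6, 2, 4, 10, 6, 8, 6, 4, 2, 0, 6, 8, 6], [8, 6, 10, 0, 8, 6, 4, 2, 6, 8, 6, 2, 8, 6, 8, 0, 11, 6, 8], [2, 10, 4, 2, 4, 10], [2, 4, 6, 11, 4, 2, 6, 11], [0, 4, 2, 10, 4, 2, 10, 4, 2, 10, 4, 11]] [[19], [21], [15], [17], [23], [25], [27]] from List.Forall₂.cons ((show ev (atm 7 fP) [6, 10, 6, 2, 4, 6, 2, 4, 11,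 2, 4, 2, 4, 2, 4, 2] = U.τ 19 from vpz19).trans (one_mul _).symm) (List.Forall₂.cons ((show ev (atm 7 fP) [4, 2, 6, 11, 4, 2, 6, 11, 4, 2, 4, 2, 4, 2, 4, 2] = U.τ 21 from vpz21).trans (one_mul _).symm) (List.Forall₂.cons ((show ev (atm 7 fP) [6, 8, 6, 2, 4, 10, 6, 8, 6, 4, 2, 0, 6, 8, 6] = U.τ 15 from vpz15).trans (one_mul _).symm) (List.Forall₂.cons ((show ev (atm 7 fP) [8, 6, 10, 0, 8, 6, 4, 2, 6, 8, 6, 2, 8, 6, 8, 0, 11, 6, 8] = U.τ 17 from vpz17).trans (one_mul _).symm) (List.Forall₂.cons ((show ev (atm 7 fP) [2, 10, 4, 2, 4, 10] = U.τ 23 from vpz23).trans (one_mul _).symm) (List.Forall₂.cons ((show ev (atm 7 fP) [2, 4, 6, 11, 4, 2, 6, 11] = U.τ 25 from vpz25).trans (one_mul _).symm) (List.Forall₂.cons ((show ev (atm 7 fP) [0, 4, 2, 10, 4, 2, 10, 4, 2, 10, 4, 11] = U.τ 27 from vpz27).trans (one_mul _).symm) (List.Forall₂.nil))))))))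
theorem reach174 : Reach (U.lsub W171) 32 M172 := (Reach.grow hU (Reach.base _ 32) gr173)
theorem orb177 : (orbS (U.lsub W171) 32).ncard = 3 := reach174.ncard hU cl175 sz176
theorem orb177e : orbS (U.lsub W171) 32 = {c | Nat.testBit M172 c = true} := reach174.orb hU cl175
theorem reach181 : Reach (U.lsub W178) 10 0x8400 := (Reach.grow hU (Reach.base _ 10) gr180)
theorem orb184 : (orbS (U.lsub W178) 10).ncard = 2 := reach181.ncard hU cl182 sz183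
theorem orb184e : orbS (U.lsub W178) 10 = {c | Nat.testBit 0x8400 c = true} := reach181.orb hU cl182
theorem reach189 : Reach (U.lsub W185) 27 M187 := (Reach.grow hU (Reach.base _ 27) gr188)
theorem orb192 : (orbS (U.lsub W185) 27).ncard = 3 := reach189.ncard hU cl190 sz191
theorem orb192e : orbS (U.lsub W185) 27 = {c | Nat.testBit M187 c = true} := reach189.orb hU cl190
theorem reach197 : Reach (U.lsub W193) 34 M195 := (Reach.grow hU (Reach.base _ 34) gr196)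
theorem orb200 : (orbS (U.lsub W193) 34).ncard = 2 := reach197.ncard hU cl198 sz199
theorem orb200e : orbS (U.lsub W193) 34 = {c | Nat.testBit M195 c = true} := reach197.orb hU cl198
theorem reach205 : Reach (U.lsub W201) 137 M203 := (Reach.grow hU (Reach.base _ 137) gr204)
theorem orb208 : (orbS (U.lsub W201) 137).ncard = 12 := reach205.ncard hU cl206 sz207
theorem orb208e : orbS (U.lsub W201) 137 = {c | Nat.testBit M203 c = true} := reach205.orb hU cl206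
theorem reach213 : Reach (U.lsub W209) 0 M211 := (Reach.grow hU (Reach.base _ 0) gr212)
theorem orb216 : (orbS (U.lsub W209) 0).ncard = 3 := reach213.ncard hU cl214 sz215
theorem orb216e : orbS (U.lsub W209) 0 = {c | Nat.testBit M211 c = true} := reach213.orb hU cl214
theorem lbB217 : 3 ∣ Nat.card (U.lsub W209) := dvd_card_orb orb216
theorem lbB218 : 36 ∣ Nat.card (U.lsub W201) :=
  dvd_card_step (s := 12) (M := 3) (B := U.lsub W209) (U.lsub_sub (by decide)) (hU.fixes fx210) orb208 lbB217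
theorem lbB219 : 72 ∣ Nat.card (U.lsub W193) :=
  dvd_card_step (s := 2) (M := 36) (B := U.lsub W201) (U.lsub_sub (by decide)) (hU.fixes fx202) orb200 lbB218
theorem lbB220 : 216 ∣ Nat.card (U.lsub W185) :=
  dvd_card_step (s := 3) (M := 72) (B := U.lsub W193) (U.lsub_sub (by decide)) (hU.fixes fx194) orb192 lbB219
theorem lbB221 : 432 ∣ Nat.card (U.lsub W178) :=
  dvd_card_step (s := 2) (M := 216) (B := U.lsub W185) (U.lsub_sub (by decide)) (hU.fixes fx186) orb184 lbB220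
theorem lbB : 1296 ∣ Nat.card (U.lsub W171) :=
  dvd_card_step (s := 3) (M := 432) (B := U.lsub W178) (U.lsub_sub (by decide)) (hU.fixes fx179) orb177 lbB221
theorem cardB : 1296 ∣ Nat.card (wsub 7 fP [[6, 10, 6, 2, 4, 6, 2, 4, 11, 2, 4, 2, 4, 2, 4, 2], [4, 2, 6, 11, 4, 2, 6, 11, 4, 2, 4, 2, 4, 2, 4, 2], [6, 8, 6, 2, 4, 10, 6, 8, 6, 4, 2, 0, 6, 8, 6], [8, 6, 10, 0, 8, 6, 4, 2, 6, 8, 6, 2, 8, 6, 8, 0, 11, 6, 8], [2, 10, 4, 2, 4, 10], [2, 4, 6, 11, 4, 2, 6, 11], [0, 4, 2, 10, 4, 2, 10, 4, 2, 10, 4, 11]]) := by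
  rw [eB]; exact lbB.trans (Subgroup.card_dvd_of_le (U.lsub_sub (by decide)))
theorem eS3 : wsub 7 fP [[12, 10, 4, 11, 2, 4, 6, 2, 6, 2, 6], [12, 0, 6, 2, 4, 11, 6, 2, 4, 11, 2]] = U.lsub W222 :=
  lsub_eq_of_all₂ (show List.Forall₂ _ [[12, 10, 4, 11, 2, 4, 6, 2, 6, 2, 6], [12, 0, 6, 2, 4, 11, 6, 2, 4, 11, 2]] [[55], [57]] from List.Forall₂.cons ((show ev (atm 7 fP) [12, 10, 4, 11, 2, 4, 6, 2, 6, 2, 6] = U.τ 55 from vpz55).trans (one_mul _).symm) (List.Forall₂.cons ((show ev (atm 7 fP) [12, 0, 6, 2, 4, 11, 6, 2, 4, 11, 2] = U.τ 57 from vpz57).trans (one_mul _).symm) (List.Forall₂.nil)))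
theorem reach227 : Reach (U.lsub W222) 35 M225 := (Reach.grow hU (Reach.base _ 35) gr226)
theorem orb230 : (orbS (U.lsub W222) 35).ncard = 240 := reach227.ncard hU cl228 sz229
theorem orb230e : orbS (U.lsub W222) 35 = {c | Nat.testBit M225 c = true} := reach227.orb hU cl228
theorem reach235 : Reach (U.lsub W231) 37 M233 := (Reach.grow hU (Reach.base _ 37) gr234)
theorem orb238 : (orbS (U.lsub W231) 37).ncard = 42 := reach235.ncard hU cl236 sz237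
theorem orb238e : orbS (U.lsub W231) 37 = {c | Nat.testBit M233 c = true} := reach235.orb hU cl236
theorem lbS3239 : 42 ∣ Nat.card (U.lsub W231) := dvd_card_orb orb238
theorem lbS3 : 10080 ∣ Nat.card (U.lsub W222) :=
  dvd_card_step (s := 240) (M := 42) (B := U.lsub W231) (Tab.lsub_le_all (AllP.cons (mem_of_rel (hU.one rel223) (U.mem_letters (by decide))) (AllP.cons (mem_of_rel (hU.one rel224) (U.mem_letters (by decide))) (AllP.nil)))) (hU.fixes fx232) orb230 lbS3239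
theorem cardS3 : 10080 ∣ Nat.card (wsub 7 fP [[12, 10, 4, 11, 2, 4, 6, 2, 6, 2, 6], [12, 0, 6, 2, 4, 11, 6, 2, 4, 11, 2]]) := by
  rw [eS3]; exact lbS3.trans (Subgroup.card_dvd_of_le (U.lsub_sub (by decide)))
theorem eS4 : wsub 7 fP [[13, 10, 4, 6, 2, 6, 11, 2, 0, 6, 4, 2, 6], [2, 6, 10, 2, 6, 2, 4, 6, 2, 4, 10, 6]] = U.lsub W240 :=
  lsub_eq_of_all₂ (show List.Forall₂ _ [[13, 10, 4, 6, 2, 6, 11, 2, 0, 6, 4, 2, 6], [2, 6, 10, 2, 6, 2, 4, 6, 2, 4, 10, 6]] [[59], [61]] from List.Forall₂.cons ((show ev (atm 7 fP) [13, 10, 4, 6, 2, 6, 11, 2, 0, 6, 4, 2, 6] = U.τ 59 from vpz59).trans (one_mul _).symm) (List.Forall₂.cons ((show ev (atm 7 fP) [2, 6, 10, 2, 6, 2, 4, 6, 2, 4, 10, 6] = U.τ 61 from vpz61).trans (one_mul _).symm) (List.Forall₂.nil)))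
theorem reach245 : Reach (U.lsub W240) 35 M243 := (Reach.grow hU (Reach.base _ 35) gr244)
theorem orb248 : (orbS (U.lsub W240) 35).ncard = 240 := reach245.ncard hU cl246 sz247
theorem orb248e : orbS (U.lsub W240) 35 = {c | Nat.testBit M243 c = true} := reach245.orb hU cl246
theorem reach253 : Reach (U.lsub W249) 60 M251 := (Reach.grow hU (Reach.base _ 60) gr252)
theorem orb256 : (orbS (U.lsub W249) 60).ncard = 12 := reach253.ncard hU cl254 sz255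
theorem orb256e : orbS (U.lsub W249) 60 = {c | Nat.testBit M251 c = true} := reach253.orb hU cl254
theorem lbS4257 : 12 ∣ Nat.card (U.lsub W249) := dvd_card_orb orb256
theorem lbS4 : 2880 ∣ Nat.card (U.lsub W240) :=
  dvd_card_step (s := 240) (M := 12) (B := U.lsub W249) (Tab.lsub_le_all (AllP.cons (mem_of_rel (hU.one rel241) (U.mem_letters (by decide))) (AllP.cons (mem_of_rel (hU.one rel242) (U.mem_letters (by decide))) (AllP.nil)))) (hU.fixes fx250) orb248 lbS4257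
theorem cardS4 : 2880 ∣ Nat.card (wsub 7 fP [[13, 10, 4, 6, 2, 6, 11, 2, 0, 6, 4, 2, 6], [2, 6, 10, 2, 6, 2, 4, 6, 2, 4, 10, 6]]) := by
  rw [eS4]; exact lbS4.trans (Subgroup.card_dvd_of_le (U.lsub_sub (by decide)))
theorem eS5 : wsub 7 fP [[6, 8, 2, 6, 2, 6, 11, 8, 4, 11, 6, 2, 6, 2, 6, 2, 8, 6, 4, 10, 6], [11, 4, 2, 4, 2, 8, 4, 6, 2, 6, 8, 6, 0, 2, 4, 6, 8, 6, 2, 6, 10, 6]] = U.lsub W258 :=
  lsub_eq_of_all₂ (show List.Forall₂ _ [[6, 8, 2, 6, 2, 6, 11, 8, 4, 11, 6, 2, 6, 2, 6, 2, 8, 6, 4, 10, 6], [11, 4, 2, 4, 2, 8, 4, 6, 2, 6, 8, 6, 0, 2, 4, 6, 8, 6, 2, 6, 10, 6]] [[63], [65]] from List.Forall₂.cons ((show ev (atm 7 fP) [6, 8, 2, 6, 2, 6, 11, 8, 4, 11, 6, 2, 6, 2, 6, 2, 8, 6, 4, 10, 6] = U.τ 63 from vpz63).trans (one_mul _).symm) (List.Forall₂.cons ((show ev (atm 7 fP) [11, 4, 2, 4, 2, 8, 4, 6, 2, 6, 8, 6, 0, 2, 4, 6, 8, 6, 2, 6, 10, 6] = U.τ 65 from vpz65).trans (one_mul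 _).symm) (List.Forall₂.nil)))
theorem reach261 : Reach (U.lsub W258) 248 M259 := (Reach.grow hU (Reach.base _ 248) gr260)
theorem orb264 : (orbS (U.lsub W258) 248).ncard = 75 := reach261.ncard hU cl262 sz263
theorem orb264e : orbS (U.lsub W258) 248 = {c | Nat.testBit M259 c = true} := reach261.orb hU cl262
theorem reach269 : Reach (U.lsub W265) 0 M267 := (Reach.grow hU (Reach.base _ 0) gr268)
theorem orb272 : (orbS (U.lsub W265) 0).ncard = 10 := reach269.ncard hU cl270 sz271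
theorem orb272e : orbS (U.lsub W265) 0 = {c | Nat.testBit M267 c = true} := reach269.orb hU cl270
theorem lbS5273 : 10 ∣ Nat.card (U.lsub W265) := dvd_card_orb orb272
theorem lbS5 : 750 ∣ Nat.card (U.lsub W258) :=
  dvd_card_step (s := 75) (M := 10) (B := U.lsub W265) (U.lsub_sub (by decide)) (hU.fixes fx266) orb264 lbS5273
theorem cardS5 : 750 ∣ Nat.card (wsub 7 fP [[6, 8, 2, 6, 2, 6, 11, 8, 4, 11, 6, 2, 6, 2, 6, 2, 8, 6, 4, 10, 6], [11, 4, 2, 4, 2, 8, 4, 6, 2, 6, 8, 6, 0, 2, 4, 6, 8, 6, 2, 6, 10, 6]]) := by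
  rw [eS5]; exact lbS5.trans (Subgroup.card_dvd_of_le (U.lsub_sub (by decide)))
theorem pysq : ∀ j < 0, j < 11 → U.fP [15, 17, 19, 21, 23, 25, 27, 29, 31, 33, 13] j * U.fP [15, 17, 19, 21, 23, 25, 27, 29, 31, 33, 13] j = 1 :=
  Tab.sq (show AllP (fun z => evA U.τ [z, z] = 1) [] from AllP.nil) 11 rfl
theorem pyiv : IvOk (2 * 0) (atm 11 (U.fP [15, 17, 19, 21, 23, 25, 27, 29, 31, 33, 13])) := ivOk_atm pysq
theorem pypz15 : PZ U (atm 11 (U.fP [15, 17, 19, 21, 23, 25, 27, 29, 31, 33, 13])) pyEX 15 := PZ.of_atom (y := 2 * 0) (by decide +kernel) (atm_two_mul _ (by decide))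
theorem pypz16 : PZ U (atm 11 (U.fP [15, 17, 19, 21, 23, 25, 27, 29, 31, 33, 13])) pyEX 16 := PZ.of_inv pyiv pypz15 (by decide +kernel)
theorem pypz17 : PZ U (atm 11 (U.fP [15, 17, 19, 21, 23, 25, 27, 29, 31, 33, 13])) pyEX 17 := PZ.of_atom (y := 2 * 1) (by decide +kernel) (atm_two_mul _ (by decide))
theorem pypz18 : PZ U (atm 11 (U.fP [15, 17, 19, 21, 23, 25, 27, 29, 31, 33, 13])) pyEX 18 := PZ.of_inv pyiv pypz17 (by decide +kernel)
theorem pypz19 : PZ U (atm 11 (U.fP [15, 17, 19, 21, 23, 25, 27, 29, 31, 33, 13])) pyEX 19 := PZ.of_atom (y := 2 * 2) (by decide +kernel) (atm_two_mul _ (by decide))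
theorem pypz20 : PZ U (atm 11 (U.fP [15, 17, 19, 21, 23, 25, 27, 29, 31, 33, 13])) pyEX 20 := PZ.of_inv pyiv pypz19 (by decide +kernel)
theorem pypz21 : PZ U (atm 11 (U.fP [15, 17, 19, 21, 23, 25, 27, 29, 31, 33, 13])) pyEX 21 := PZ.of_atom (y := 2 * 3) (by decide +kernel) (atm_two_mul _ (by decide))
theorem pypz22 : PZ U (atm 11 (U.fP [15, 17, 19, 21, 23, 25, 27, 29, 31, 33, 13])) pyEX 22 := PZ.of_inv pyiv pypz21 (by decide +kernel)
theorem pypz23 : PZ U (atm 11 (U.fP [15, 17, 19, 21, 23, 25, 27, 29, 31, 33, 13])) pyEX 23 := PZ.of_atom (y := 2 * 4) (by decide +kernel) (atm_two_mul _ (by decide))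
theorem pypz24 : PZ U (atm 11 (U.fP [15, 17, 19, 21, 23, 25, 27, 29, 31, 33, 13])) pyEX 24 := PZ.of_inv pyiv pypz23 (by decide +kernel)
theorem pypz25 : PZ U (atm 11 (U.fP [15, 17, 19, 21, 23, 25, 27, 29, 31, 33, 13])) pyEX 25 := PZ.of_atom (y := 2 * 5) (by decide +kernel) (atm_two_mul _ (by decide))
theorem pypz26 : PZ U (atm 11 (U.fP [15, 17, 19, 21, 23, 25, 27, 29, 31, 33, 13])) pyEX 26 := PZ.of_inv pyiv pypz25 (by decide +kernel)
theorem pypz27 : PZ U (atm 11 (U.fP [15, 17, 19, 21, 23, 25, 27, 29, 31, 33, 13])) pyEX 27 := PZ.of_atom (y := 2 * 6) (by decide +kernel) (atm_two_mul _ (by decide))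
theorem pypz28 : PZ U (atm 11 (U.fP [15, 17, 19, 21, 23, 25, 27, 29, 31, 33, 13])) pyEX 28 := PZ.of_inv pyiv pypz27 (by decide +kernel)
theorem pypz29 : PZ U (atm 11 (U.fP [15, 17, 19, 21, 23, 25, 27, 29, 31, 33, 13])) pyEX 29 := PZ.of_atom (y := 2 * 7) (by decide +kernel) (atm_two_mul _ (by decide))
theorem pypz30 : PZ U (atm 11 (U.fP [15, 17, 19, 21, 23, 25, 27, 29, 31, 33, 13])) pyEX 30 := PZ.of_inv pyiv pypz29 (by decide +kernel)
theorem pypz31 : PZ U (atm 11 (U.fP [15, 17, 19, 21, 23, 25, 27, 29, 31, 33, 13])) pyEX 31 := PZ.of_atom (y := 2 * 8) (by decide +kernel) (atm_two_mul _ (by decide))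
theorem pypz32 : PZ U (atm 11 (U.fP [15, 17, 19, 21, 23, 25, 27, 29, 31, 33, 13])) pyEX 32 := PZ.of_inv pyiv pypz31 (by decide +kernel)
theorem pypz33 : PZ U (atm 11 (U.fP [15, 17, 19, 21, 23, 25, 27, 29, 31, 33, 13])) pyEX 33 := PZ.of_atom (y := 2 * 9) (by decide +kernel) (atm_two_mul _ (by decide))
theorem pypz34 : PZ U (atm 11 (U.fP [15, 17, 19, 21, 23, 25, 27, 29, 31, 33, 13])) pyEX 34 := PZ.of_inv pyiv pypz33 (by decide +kernel)
theorem pypz13 : PZ U (atm 11 (U.fP [15, 17, 19, 21, 23, 25, 27, 29, 31, 33, 13])) pyEX 13 := PZ.of_atom (y := 2 * 10) (by decide +kernel) (atm_two_mul _ (by decide))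
theorem pypz14 : PZ U (atm 11 (U.fP [15, 17, 19, 21, 23, 25, 27, 29, 31, 33, 13])) pyEX 14 := PZ.of_inv pyiv pypz13 (by decide +kernel)
theorem pyPZ : AllP (PZ U (atm 11 (U.fP [15, 17, 19, 21, 23, 25, 27, 29, 31, 33, 13])) pyEX) [13, 14, 15, 16, 17, 18, 19, 20, 21, 22, 23, 24, 25, 26, 27, 28, 29, 30, 31, 32, 33, 34] :=
  AllP.cons pypz13 (AllP.cons pypz14 (AllP.cons pypz15 (AllP.cons pypz16 (AllP.cons pypz17 (AllP.cons pypz18 (AllP.cons pypz19 (AllP.cons pypz20 (AllP.cons pypz21 (AllP.cons pypz22 (AllP.cons pypz23 (AllP.cons pypz24 (AllP.cons pypz25 (AllP.cons pypz26 (AllP.cons pypz27 (AllP.cons pypz28 (AllP.cons pypz29 (AllP.cons pypz30 (AllP.cons pypz31 (AllP.cons pypz32 (AllP.cons pypz33 (AllP.cons pypz34 (AllP.nil))))))))))))))))))))))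
theorem py : Pres 11 0 LyUY.RY0 (U.fP [15, 17, 19, 21, 23, 25, 27, 29, 31, 33, 13]) :=
  ⟨pysq, relAll_sound pyiv (W := [[15, 15, 15], [17, 17, 17], [18, 16, 17, 15], [20, 16, 19, 15], [22, 16, 21, 15], [20, 18, 19, 17], [22, 18, 21, 17], [15, 32, 15, 31], [17, 32, 17, 31], [18, 18, 24, 15, 23], [16, 24, 17, 23], [16, 16, 18, 26, 15, 25], [16, 18, 26, 17, 25], [16, 18, 28, 15, 27], [16, 18, 18, 28, 17, 27], [29, 30, 29, 30], [20, 20, 29, 16, 30, 16, 29, 15, 30, 15], [29, 18, 30, 18, 29, 17, 30, 17], [20, 20, 29, 16, 16, 30, 16, 16, 29, 15, 15, 30, 15, 15], [29, 16, 18, 30, 16, 18, 29, 17, 15, 30, 17, 15], [29, 18, 18, 30, 18, 18, 29, 17, 17, 30, 17, 17], [20, 29, 16, 16, 18, 30, 16, 16, 18, 29, 17, 15, 15, 30, 17, 15, 15], [20, 29, 16, 18, 18, 30, 16, 18, 18, 29, 17, 17, 15, 30, 17, 17, 15], [29, 16, 16, 18, 18, 30, 16, 16, 18, 18, 29, 17, 17, 15, 15, 30, 17, 17, 15, 15]])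 (rules := [⟨[15, 15, 15], [], 0, true⟩, ⟨[17, 17, 17], [], 1, true⟩, ⟨[18, 16, 17, 15], [], 2, true⟩, ⟨[20, 16, 19, 15], [], 3, true⟩, ⟨[22, 16, 21, 15], [], 4, true⟩, ⟨[20, 18, 19, 17], [], 5, true⟩, ⟨[22, 18, 21, 17], [], 6, true⟩, ⟨[15, 32, 15, 31], [], 7, true⟩, ⟨[17, 32, 17, 31], [], 8, true⟩, ⟨[18, 18, 24, 15, 23], [], 9, true⟩, ⟨[16, 24, 17, 23], [], 10, true⟩, ⟨[16, 16, 18, 26, 15, 25], [], 11, true⟩, ⟨[16, 18, 26, 17, 25], [], 12, true⟩, ⟨[16, 18, 28, 15, 27], [], 13, true⟩, ⟨[16, 18, 18, 28, 17, 27], [], 14, true⟩, ⟨[29, 30, 29, 30], [], 15, true⟩, ⟨[20, 20, 29, 16, 30, 16, 29, 15, 30, 15], [], 16, true⟩, ⟨[29, 18, 30, 18, 29, 17, 30, 17], [], 17, true⟩, ⟨[20, 20, 29, 16, 16, 30, 16, 16, 29, 15, 15, 30, 15, 15], [], 18, true⟩, ⟨[29, 16, 18, 30, 16, 18, 29, 17, 15, 30, 17, 15], [], 19, true⟩, ⟨[29, 18, 18, 30, 18, 18, 29, 17, 17, 30, 17, 17], [], 20, true⟩, ⟨[20,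 29, 16, 16, 18, 30, 16, 16, 18, 29, 17, 15, 15, 30, 17, 15, 15], [], 21, true⟩, ⟨[20, 29, 16, 18, 18, 30, 16, 18, 18, 29, 17, 17, 15, 30, 17, 17, 15], [], 22, true⟩, ⟨[29, 16, 16, 18, 18, 30, 16, 16, 18, 18, 29, 17, 17, 15, 15, 30, 17, 17, 15, 15], [], 23, true⟩]) pyPZ (AllP.cons (hU.one rel274) (AllP.cons (hU.one rel275) (AllP.cons (hU.one rel276) (AllP.cons (hU.one rel277) (AllP.cons (hU.one rel278) (AllP.cons (hU.one rel279) (AllP.cons (hU.one rel280) (AllP.cons (hU.one rel281) (AllP.cons (hU.one rel282) (AllP.cons (hU.one rel283) (AllP.cons (hU.one rel284) (AllP.cons (hU.one rel285) (AllP.cons (hU.one rel286) (AllP.cons (hU.one rel287) (AllP.cons (hU.one rel288) (AllP.cons (hU.one rel289) (AllP.cons (hU.one rel290) (AllP.cons (hU.one rel291) (AllP.cons (hU.one rel292) (AllP.cons (hU.one rel293) (AllP.cons (hU.one rel294) (AllP.cons (hU.one rel295) (AllP.cons (hU.one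 rel296) (AllP.cons (hU.one rel297) (AllP.nil))))))))))))))))))))))))) (by decide +kernel)⟩
theorem pyE : ∀ j < 11, U.fP [15, 17, 19, 21, 23, 25, 27, 29, 31, 33, 13] j = wv 7 fP pyWD j := by
  intro j hj
  interval_cases j
  · exact vpz15.symm
  · exact vpz17.symm
  · exact vpz19.symm
  · exact vpz21.symm
  · exact vpz23.symm
  · exact vpz25.symm
  · exact vpz27.symm
  · exact vpz29.symm
  · exact vpz31.symm
  · exact vpz33.symm
  · exact vpz13.symm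
theorem pyW : Pres 11 0 LyUY.RY0 (wv 7 fP pyWD) := py.congr pyE
theorem pyG : wsub 7 fP pyWD = U.lsub W298 :=
  (gsub_congr pyE).symm.trans (lsub_eq_gsub U [15, 17, 19, 21, 23, 25, 27, 29, 31, 33, 13])

end Cfsg.Agent.Spor.LyUP.L
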